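import Cfsg.Agent.H439.CY.Defs
import Cfsg.Agent.H951.Lin

/-!
# S4829, polar spaces, linear type: semisimilarities commuting with `P` preserve the pairs (helper412)

`P` a Sylow `p`-subgroup of `G`.
* `exists_act` : on a `P`-invariant totally singular `U` of dimension divisible by `d = ord_p |F|` some element of `P` acts
  as a root of an irreducible factor of the cyclotomic polynomial;
* `irr` : a `P`-invariant totally singular `U` of dimension `d` is an irreducible `P`-module;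
* `oppPair_of` : `OppUni → OppPair` (`H439/CY/Defs`).
-/

set_option autoImplicit false

open Module Polynomial Cfsg
open Cfsg.Agent.H2.Pol Cfsg.Agent.H674.BR Cfsg.Agent.H646.BR Cfsg.Agent.H439.CY

namespace Cfsg.Agent.H412.CY

variable {p : ℕ} [hp : Fact p.Prime] {F V G : Type*} [Field F] [Fintype F] [AddCommGroup V] [Module F V]
  [FiniteDimensional F V] [Group G] [Finite G] {Φ : Pol F V} {ρ : G →* (V ≃ₗ[F] V)}

omit [FiniteDimensional F V] [Finite G] in
theorem coprime (hL : LinType p Φ ρ) : p.Coprime (Fintype.card F) := (hp.out.coprime_iff_not_dvd).2 hL.notdvd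

omit [FiniteDimensional F V] [Finite G] in
theorem natDegree_eq (hL : LinType p Φ ρ) {f : F[X]} (hf : Irreducible f) (hfc : f ∣ cyclotomic p F) :
    f.natDegree = orderOf ((Fintype.card F : ℕ) : ZMod p) := by
  rw [natDegree_irr hf hfc (coprime hL), ← orderOf_units, ZMod.coe_unitOfCoprime]

omit [FiniteDimensional F V] [Finite G] in
theorem ord_pos (hL : LinType p Φ ρ) : 0 < orderOf ((Fintype.card F : ℕ) : ZMod p) := by
  obtain ⟨f, hf, hfc⟩ := exists_irr F p
  rw [← natDegree_eq hL hf hfc]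
  exact hf.natDegree_pos

/-- an element of `P` annihilated by `f` on `U` -/
theorem exists_act (hL : LinType p Φ ρ) {f : F[X]} (hf : Irreducible f) (hfc : f ∣ cyclotomic p F) (P : Sylow p G)
    {U : Submodule F V} (hU : Φ.TI U) (hPU : ∀ g ∈ P, mv ρ g U = U) (hd : f.natDegree ∣ finrank F U) :
    ∃ g ∈ P, ∀ x ∈ U, aeval (ρ g : V →ₗ[F] V) f x = 0 := by
  obtain ⟨z, hzp, hz⟩ := exists_z (U := U) hf hfc (coprime hL) hd
  obtain ⟨a, ha⟩ := exists_conj (sylT hL.witt P hU hPU) hzp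
  obtain ⟨g, hg, hgz⟩ := exists_of_mem_sylT hL.witt P hU hPU ha
  refine ⟨g, hg, fun x hx => ?_⟩
  have hpow : ∀ (k : ℕ), ((ρ g : V →ₗ[F] V) ^ k) x = (((((a * z * a⁻¹ : U ≃ₗ[F] U) : U →ₗ[F] U) ^ k) ⟨x, hx⟩ : U) : V) := by
    intro k
    induction k with
    | zero => rfl
    | succ k ih =>
      rw [pow_succ', Module.End.mul_apply, ih, pow_succ', Module.End.mul_apply]
      exact hgz _
  have h1 := LinearMap.congr_fun (aeval_conj a z hz) ⟨x, hx⟩
  have h2 := congrArg (Subtype.val : U → V) h1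
  rw [aeval_eq_sum_range, LinearMap.sum_apply, Submodule.coe_sum] at h2
  rw [aeval_eq_sum_range, LinearMap.sum_apply]
  refine Eq.trans (Finset.sum_congr rfl fun k _ => ?_) h2
  rw [LinearMap.smul_apply, hpow]
  rfl

/-- **irreducibility** -/
theorem irr (hL : LinType p Φ ρ) (P : Sylow p G) {U : Submodule F V} (hU : Φ.TI U) (hPU : ∀ g ∈ P, mv ρ g U = U)
    (hd : finrank F U = orderOf ((Fintype.card F : ℕ) : ZMod p)) {W : Submodule F V} (hWU : W ≤ U)
    (hW : ∀ g ∈ P, ∀ x ∈ W, ρ g x ∈ W) : W = ⊥ ∨ W = U := by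
  obtain ⟨f, hf, hfc⟩ := exists_irr F p
  have hdeg := natDegree_eq hL hf hfc
  obtain ⟨g, hg, hgf⟩ := exists_act hL hf hfc P hU hPU (by rw [hd, hdeg])
  by_cases h0 : W = ⊥
  · exact Or.inl h0
  obtain ⟨v, hv, hv0⟩ := (Submodule.ne_bot_iff _).1 h0
  have h1 : f.natDegree ≤ finrank F W :=
    H951.natDegree_le_finrank (x := (ρ g : V →ₗ[F] V)) hf (hgf v (hWU hv)) hv0 (fun x hx => hW g hg x hx) hv
  exact Or.inr (Submodule.eq_of_le_of_finrank_le hWU (by rw [hd, ← hdeg]; exact h1))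

omit [Fintype F] [FiniteDimensional F V] [Finite G] hp in
theorem mem_of_mv {P : Sylow p G} {U : Submodule F V} (hPU : ∀ g ∈ P, mv ρ g U = U) : ∀ g ∈ P, ∀ x ∈ U, ρ g x ∈ U := by
  intro g hg x hx
  have h1 : ρ g x ∈ mv ρ g U := mem_mv_of_mem hx
  rwa [hPU g hg] at h1

omit [Fintype F] [FiniteDimensional F V] [Finite G] hp in
/-- `perp` of an invariant subspace -/
theorem mem_perp_of_mv (hΦ : Pres Φ ρ) {P : Sylow p G} {U : Submodule F V} (hPU : ∀ g ∈ P, mv ρ g U = U) :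
    ∀ g ∈ P, ∀ x ∈ Φ.perp U, ρ g x ∈ Φ.perp U := by
  intro g hg x hx w hw
  rw [← hPU g hg] at hw
  obtain ⟨w', hw', rfl⟩ := hw
  exact ((hΦ g).1 x w').trans (hx w' hw')

/-- a `p`-element trivial on the `P`-invariant complement `C` of `U` in the totally singular `T = U + C` -/
theorem exists_triv (hL : LinType p Φ ρ) (P : Sylow p G) {U C : Submodule F V} (hT : Φ.TI (U ⊔ C)) (hUC : U ⊓ C = ⊥)
    (hPU : ∀ g ∈ P, mv ρ g U = U) (hPC : ∀ g ∈ P, mv ρ g C = C)
    (hd : orderOf ((Fintype.card F : ℕ) : ZMod p) ∣ finrank F U) :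
    ∃ g ∈ P, (∀ x ∈ C, ρ g x = x) ∧ ∀ x ∈ U, ρ g x = x → x = 0 := by
  obtain ⟨f, hf, hfc⟩ := exists_irr F p
  have hdeg := natDegree_eq hL hf hfc
  have hPT : ∀ g ∈ P, mv ρ g (U ⊔ C) = U ⊔ C := by
    intro g hg
    rw [mv, Submodule.map_sup]
    exact congrArg₂ _ (hPU g hg) (hPC g hg)
  have hcompl : IsCompl (U.comap (U ⊔ C).subtype) (C.comap (U ⊔ C).subtype) := by
    constructor
    · rw [disjoint_iff, eq_bot_iff]
      rintro x ⟨hx1, hx2⟩
      rw [Submodule.mem_bot]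
      apply Subtype.ext
      have h1 : (x : V) ∈ U ⊓ C := ⟨hx1, hx2⟩
      rw [hUC] at h1
      exact (Submodule.mem_bot F).1 h1
    · rw [codisjoint_iff, eq_top_iff]
      rintro x -
      obtain ⟨u, hu, w, hw, huw⟩ := Submodule.mem_sup.1 x.2
      rw [show x = (⟨u, Submodule.mem_sup_left hu⟩ : ↥(U ⊔ C)) + ⟨w, Submodule.mem_sup_right hw⟩ from Subtype.ext huw.symm]
      exact Submodule.add_mem_sup hu hw
  have hfr : finrank F (U.comap (U ⊔ C).subtype) = finrank F U :=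
    (Submodule.comapSubtypeEquivOfLe (le_sup_left : U ≤ U ⊔ C)).finrank_eq
  obtain ⟨y, hyQ, hy1, -, hy3⟩ := exists_y (coprime hL) hf hfc (sylT hL.witt P hT hPT) hcompl
    (by
      intro g hg x hx
      obtain ⟨a, ha, hax⟩ := exists_of_mem_sylT hL.witt P hT hPT hg
      change ((g x : ↥(U ⊔ C)) : V) ∈ U
      rw [← hax]
      exact mem_of_mv hPU a ha _ hx)
    (by
      intro g hg x hx
      obtain ⟨a, ha, hax⟩ := exists_of_mem_sylT hL.witt P hT hPT hg
      change ((g x : ↥(U ⊔ C)) : V) ∈ C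
      rw [← hax]
      exact mem_of_mv hPC a ha _ hx)
    (by rw [hfr, hdeg]; exact hd)
  obtain ⟨g, hg, hgy⟩ := exists_of_mem_sylT hL.witt P hT hPT hyQ
  refine ⟨g, hg, ?_, ?_⟩
  · intro x hx
    have h1 := hgy ⟨x, Submodule.mem_sup_right hx⟩
    rw [hy1 ⟨x, Submodule.mem_sup_right hx⟩ hx] at h1
    exact h1
  · intro x hx hgx
    have h1 := hy3 ⟨x, Submodule.mem_sup_left hx⟩ hx
      (Subtype.ext ((hgy ⟨x, Submodule.mem_sup_left hx⟩).symm.trans hgx))
    exact congrArg Subtype.val h1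

/-- **`OppPair` from the uniqueness of the opposite** -/
theorem oppPair_gen (hL : LinType p Φ ρ) (P : Sylow p G) {U U' : Submodule F V} (hU : Φ.TI U)
    (hPU : ∀ g ∈ P, mv ρ g U = U) (hd : finrank F U = orderOf ((Fintype.card F : ℕ) : ZMod p))
    (huni : ∀ U'' : Submodule F V, Φ.TI U'' → (∀ g ∈ P, mv ρ g U'' = U'') → finrank F U'' = finrank F U →
      Opp Φ U U'' → U' = U'') (M : V ≃+ V) (hM : SemiAct Φ M) (hMP : ∀ g ∈ P, ∀ v, M (ρ g v) = ρ g (M v)) :
    hM.sub U = U ∨ hM.sub U = U' := by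
  have hPM : ∀ g ∈ P, mv ρ g (hM.sub U) = hM.sub U := by
    intro g hg
    apply mv_eq_of_le
    rintro _ ⟨_, ⟨x, hx, rfl⟩, rfl⟩
    exact ⟨ρ g x, mem_of_mv hPU g hg x hx, hMP g hg x⟩
  rcases irr hL P hU hPU hd (W := U ⊓ Φ.perp (hM.sub U)) inf_le_left
    (fun g hg x hx => ⟨mem_of_mv hPU g hg x hx.1, mem_perp_of_mv hL.pres hPM g hg x hx.2⟩) with h1 | h1
  · exact Or.inr (huni _ (hM.ti hU) hPM (hM.finrank U) h1).symm
  left
  have horth : Φ.Orth U (hM.sub U) := by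
    rw [Pol.orth_iff_le_perp]
    exact h1.symm.le.trans inf_le_right
  rcases irr hL P hU hPU hd (W := U ⊓ hM.sub U) inf_le_left
    (fun g hg x hx => ⟨mem_of_mv hPU g hg x hx.1, mem_of_mv hPM g hg x hx.2⟩) with h2 | h2
  · exfalso
    obtain ⟨g, hg, hgC, hgU⟩ := exists_triv hL P (hU.sup (hM.ti hU) horth) h2 hPU hPM (by rw [hd])
    have h3 : U = ⊥ := by
      rw [eq_bot_iff]
      intro x hx
      rw [Submodule.mem_bot]
      apply hgU x hx
      apply M.injective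
      rw [hMP g hg]
      exact hgC _ ⟨x, hx, rfl⟩
    have h4 := ord_pos hL
    rw [← hd, h3, finrank_bot] at h4
    exact lt_irrefl 0 h4
  · have h3 : U ≤ hM.sub U := h2.symm.le.trans inf_le_right
    exact (Submodule.eq_of_le_of_finrank_eq h3 (hM.finrank U).symm).symm

theorem oppPair_of (h : OppUni) : OppPair := by
  intro p _ F V G _ _ _ _ _ _ _ Φ ρ hL P U U' hU hU' hPU hPU' hd hfr hopp M hM hMP
  exact oppPair_gen hL P hU hPU hd
    (fun U'' hU'' hP'' hfr'' hopp'' => h hL P U U' U'' hU hU' hU'' hPU hPU' hP'' hd hfr hfr'' hopp hopp'') M hM hMP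

end Cfsg.Agent.H412.CY
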